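import Groth.Agent.Lib.RelDiv.ExactFlat
import Mathlib.RingTheory.IsTensorProduct
import Mathlib.RingTheory.TensorProduct.Quotient
import Mathlib.LinearAlgebra.TensorProduct.RightExactness

/-!
# Base change of `I^n / I^(n+1)`
-/

set_option autoImplicit false
set_option linter.style.haveILetI false
universe u

open scoped TensorProduct

namespace Groth.Agent.Lib.GrBC

variable {A : Type u} [CommRing A] (I : Ideal A) (n : ℕ)

/-- `I^n / I^(n+1)` inside `A / I^(n+1)`. -/
abbrev grSub : Submodule A (A ⧸ I ^ (n + 1)) :=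
  Submodule.map (Submodule.mkQ (I ^ (n + 1))) (I ^ n)

variable {B : Type u} [CommRing B] [Algebra A B]

/-- A map killing `I^(n+1)` kills what `B ⊗ I^n → B` sends into `I^(n+1) B`, if
`B ⊗ I^n/I^(n+1) → B ⊗ A/I^(n+1)` is injective. -/
theorem factor_zero {M N : Type u} [AddCommGroup M] [Module A M] [AddCommGroup N] [Module A N]
    [Module B N] [IsScalarTower A B N] (val : M →ₗ[A] A) (hval : LinearMap.range val = I ^ n)
    (ℓ : M →ₗ[A] N) (hℓ : ∀ k, val k ∈ I ^ (n + 1) → ℓ k = 0)
    (H : Function.Injective ((grSub I n).subtype.lTensor B)) (w : B ⊗[A] M)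
    (hw : LinearMap.liftBaseChange B ((Algebra.linearMap A B) ∘ₗ val) w ∈
      (I ^ (n + 1)).map (algebraMap A B)) :
    LinearMap.liftBaseChange B ℓ w = 0 := by
  let v' : M →ₗ[A] grSub I n :=
    ((Submodule.mkQ (I ^ (n + 1))).comp val).codRestrict (grSub I n) fun k =>
      Submodule.mem_map_of_mem (hval ▸ LinearMap.mem_range_self val k)
  have hv' : Function.Surjective v' := by
    rintro ⟨_, a, ha, rfl⟩
    obtain ⟨k, rfl⟩ : a ∈ LinearMap.range val := hval.symm ▸ ha
    exact ⟨k, rfl⟩
  have key : ∀ w, (grSub I n).subtype.lTensor B (v'.lTensor B w) =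
      Algebra.TensorProduct.quotIdealMapEquivTensorQuot B (I ^ (n + 1))
        (Ideal.Quotient.mk _ (LinearMap.liftBaseChange B ((Algebra.linearMap A B) ∘ₗ val) w)) := by
    intro w
    induction w using TensorProduct.induction_on with
    | zero => simp
    | tmul b k =>
      rw [LinearMap.lTensor_tmul, LinearMap.lTensor_tmul]
      change b ⊗ₜ[A] (Ideal.Quotient.mk (I ^ (n + 1)) (val k)) =
        (b * algebraMap A B (val k)) ⊗ₜ[A] (1 : A ⧸ I ^ (n + 1))
      rw [mul_comm, ← Algebra.smul_def, TensorProduct.smul_tmul, Algebra.smul_def, mul_one]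
      rfl
    | add x y hx hy => simp only [map_add, hx, hy]
  have h0 : v'.lTensor B w = 0 := H (by
    rw [key, Ideal.Quotient.eq_zero_iff_mem.2 hw, map_zero, map_zero])
  have hex : Function.Exact (LinearMap.ker v').subtype v' := LinearMap.exact_subtype_ker_map v'
  obtain ⟨z, rfl⟩ := (lTensor_exact B hex hv' w).mp h0
  clear hw h0
  induction z using TensorProduct.induction_on with
  | zero => simp
  | tmul b k =>
    rw [LinearMap.lTensor_tmul, Submodule.subtype_apply, LinearMap.liftBaseChange_tmul, hℓ _ ?_, smul_zero]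
    exact Ideal.Quotient.eq_zero_iff_mem.1 (congrArg Subtype.val (LinearMap.mem_ker.1 k.2))
  | add x y hx hy => simp only [map_add, hx, hy, add_zero]

variable {B₀ : Type u} [CommRing B₀] [Algebra B₀ A]

theorem flat_quot (ε : A →+* B₀) (hε : ∀ b, ε (algebraMap B₀ A b) = b) (hI : RingHom.ker ε = I)
    (hfl : ∀ k, 1 ≤ k → k < n → Module.Flat B₀ (grSub I k)) :
    ∀ j, j ≤ n → Module.Flat B₀ (A ⧸ I ^ j) := by
  intro j
  induction j with
  | zero =>
    intro _
    haveI : Subsingleton (A ⧸ I ^ 0) := by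
      rw [pow_zero, Ideal.one_eq_top]
      exact Ideal.Quotient.subsingleton_iff.2 rfl
    infer_instance
  | succ j ih =>
    intro hj
    haveI := ih (by omega)
    rcases Nat.eq_zero_or_pos j with rfl | hpos
    · let q : B₀ →ₗ[B₀] A ⧸ I ^ (0 + 1) :=
        ((Ideal.Quotient.mkₐ B₀ (I ^ (0 + 1))).comp (Algebra.ofId B₀ A)).toLinearMap
      have hq : Function.Bijective q := by
        refine ⟨fun b b' hb => ?_, fun x => ?_⟩
        · have h1 : algebraMap B₀ A b - algebraMap B₀ A b' ∈ I ^ (0 + 1) := Ideal.Quotient.eq.1 hb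
          rw [zero_add, pow_one, ← hI, RingHom.mem_ker, map_sub, hε, hε, sub_eq_zero] at h1
          exact h1
        · obtain ⟨a, rfl⟩ := Ideal.Quotient.mk_surjective x
          refine ⟨ε a, Ideal.Quotient.eq.2 ?_⟩
          rw [zero_add, pow_one, ← hI, RingHom.mem_ker, map_sub]
          exact sub_eq_zero.2 (hε _)
      exact Module.Flat.of_linearEquiv (LinearEquiv.ofBijective q hq).symm
    · haveI := hfl j hpos (by omega)
      let p : (A ⧸ I ^ (j + 1)) →ₗ[A] A ⧸ I ^ j := Submodule.factor (Ideal.pow_le_pow_right j.le_succ)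
      refine RelDiv.ExactFlat.flat_middle (i := (grSub I j).subtype.restrictScalars B₀)
        (p := p.restrictScalars B₀) Subtype.val_injective ?_ ?_
      · intro x
        obtain ⟨a, rfl⟩ := Submodule.Quotient.mk_surjective _ x
        change Submodule.Quotient.mk a = 0 ↔ _
        rw [Submodule.Quotient.mk_eq_zero]
        exact ⟨fun ha => ⟨⟨_, Submodule.mem_map_of_mem ha⟩, rfl⟩, fun ⟨⟨_, b, hb, e⟩, he⟩ => by
          subst e
          have h1 : b - a ∈ I ^ (j + 1) := Ideal.Quotient.eq.1 he
          simpa using sub_mem hb (Ideal.pow_le_pow_right j.le_succ h1)⟩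
      · intro x
        obtain ⟨a, rfl⟩ := Submodule.Quotient.mk_surjective _ x
        exact ⟨Submodule.Quotient.mk a, rfl⟩

/-- Injectivity after a base change coming from the base of an augmented algebra with flat graded
pieces. -/
theorem injective_of_section {B₁ : Type u} [CommRing B₁] [Algebra B₀ B₁] [Algebra B₁ B] [Algebra B₀ B]
    [IsScalarTower B₀ A B] [IsScalarTower B₀ B₁ B] [Algebra.IsPushout B₀ B₁ A B]
    (ε : A →+* B₀) (hε : ∀ b, ε (algebraMap B₀ A b) = b) (hI : RingHom.ker ε = I)
    (hfl : ∀ k, 1 ≤ k → k < n → Module.Flat B₀ (grSub I k)) :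
    Function.Injective ((grSub I n).subtype.lTensor B) := by
  haveI := flat_quot I n ε hε hI hfl n le_rfl
  let p : (A ⧸ I ^ (n + 1)) →ₗ[A] A ⧸ I ^ n := Submodule.factor (Ideal.pow_le_pow_right n.le_succ)
  have hinj : Function.Injective (((grSub I n).subtype.restrictScalars B₀).lTensor B₁) := by
    refine RelDiv.ExactFlat.lTensor_injective (p := p.restrictScalars B₀) Subtype.val_injective ?_ ?_ B₁
    · intro x
      obtain ⟨a, rfl⟩ := Submodule.Quotient.mk_surjective _ x
      change Submodule.Quotient.mk a = 0 ↔ _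
      rw [Submodule.Quotient.mk_eq_zero]
      exact ⟨fun ha => ⟨⟨_, Submodule.mem_map_of_mem ha⟩, rfl⟩, fun ⟨⟨_, b, hb, e⟩, he⟩ => by
        subst e
        have h1 : b - a ∈ I ^ (n + 1) := Ideal.Quotient.eq.1 he
        simpa using sub_mem hb (Ideal.pow_le_pow_right n.le_succ h1)⟩
    · intro x
      obtain ⟨a, rfl⟩ := Submodule.Quotient.mk_surjective _ x
      exact ⟨Submodule.Quotient.mk a, rfl⟩
  let eP := Algebra.IsPushout.cancelBaseChange B₀ B₁ A B (grSub I n)
  let eQ := Algebra.IsPushout.cancelBaseChange B₀ B₁ A B (A ⧸ I ^ (n + 1))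
  have comm : ∀ x, (grSub I n).subtype.lTensor B (eP.symm x) =
      eQ.symm (((grSub I n).subtype.restrictScalars B₀).lTensor B₁ x) := by
    intro x
    induction x using TensorProduct.induction_on with
    | zero => simp
    | tmul s m =>
      rw [Algebra.IsPushout.cancelBaseChange_symm_tmul, LinearMap.lTensor_tmul, LinearMap.lTensor_tmul,
        Algebra.IsPushout.cancelBaseChange_symm_tmul]
      rfl
    | add x y hx hy => simp only [map_add, hx, hy]
  intro z z' hzz
  obtain ⟨x, rfl⟩ := eP.symm.surjective z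
  obtain ⟨x', rfl⟩ := eP.symm.surjective z'
  rw [comm, comm] at hzz
  exact congrArg eP.symm (hinj (eQ.symm.injective hzz))

end Groth.Agent.Lib.GrBC
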