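import Groth.Prelude.Def_OmegaPn
import Groth.Agent.Lib.Conormal92.Affine

/-!
# The graded pieces `I^n / I^(n+1)` of a closed immersion on affine charts
-/

set_option autoImplicit false
set_option linter.style.haveILetI false
universe u

open CategoryTheory CategoryTheory.Limits AlgebraicGeometry TopologicalSpace Opposite OmegaSh
open scoped TensorProduct

namespace Groth.Agent.Lib.GrBC

variable {Z X : Scheme.{u}} (K : X.IdealSheafData)

theorem idealSect_inj (V : X.Opens) : Function.Injective (idealSect K V) :=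
  ClSub.Sections.idealModι_app_injective K V

theorem idealSect_smul (V : X.Opens) (r : Γ(X, V)) (k : Γ(ClSub.idealMod K, V)) :
    idealSect K V (r • k) = r * idealSect K V k := by
  rw [idealSect_apply, Scheme.Modules.Hom.app_smul]
  rfl

theorem idealSect_map {V W : X.Opens} (e : W ≤ V) (k : Γ(ClSub.idealMod K, V)) :
    idealSect K W ((ClSub.idealMod K).presheaf.map (homOfLE e).op k) =
      X.presheaf.map (homOfLE e).op (idealSect K V k) :=
  congr($((ClSub.idealModι K).mapPresheaf.naturality (homOfLE e).op) k)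

theorem exists_idealSect_iff {V : X.Opens} (hV : IsAffineOpen V) (t : Γ(X, V)) :
    (∃ k, idealSect K V k = t) ↔ t ∈ K.ideal ⟨V, hV⟩ :=
  ClSub.Sections.mem_range_idealModι_app_affine_iff K ⟨V, hV⟩ t

/-- A function which is locally in the ideal comes from a section of the ideal module. -/
theorem exists_idealSect_of_local (V : X.Opens) (t : Γ(X, V))
    (h : ∀ x ∈ V, ∃ W : X.affineOpens, x ∈ (W : X.Opens) ∧ ∃ e : (W : X.Opens) ≤ V,
      X.presheaf.map (homOfLE e).op t ∈ K.ideal W) :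
    ∃ k, idealSect K V k = t := by
  obtain ⟨k, hk⟩ := (ClSub.Sections.mem_range_idealModι_app_iff K V t).mpr (by
    let ι := K.subschemeι
    refine K.subscheme.sheaf.eq_of_locally_eq'
      (fun W : {W : X.affineOpens // ∃ e : (W : X.Opens) ≤ V,
        X.presheaf.map (homOfLE e).op t ∈ K.ideal W} => ι ⁻¹ᵁ (W.1 : X.Opens))
      (ι ⁻¹ᵁ V) (fun W => (Opens.map ι.base).map (homOfLE W.2.choose)) ?_ _ _ ?_
    · intro z hz
      obtain ⟨W, hzW, e, hW⟩ := h (ι z) hz
      exact Opens.mem_iSup.mpr ⟨⟨W, e, hW⟩, hzW⟩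
    · intro W
      change K.subscheme.presheaf.map ((Opens.map ι.base).map (homOfLE W.2.choose)).op (ι.app V t) =
        K.subscheme.presheaf.map ((Opens.map ι.base).map (homOfLE W.2.choose)).op 0
      rw [map_zero, ← ConcreteCategory.comp_apply]
      refine (congr($((ι.naturality (homOfLE W.2.choose).op).symm) t)).trans ?_
      change ι.app W.1 (X.presheaf.map (homOfLE W.2.choose).op t) = 0
      rw [← RingHom.mem_ker, K.ker_subschemeι_app W.1]
      exact W.2.choose_spec)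
  exact ⟨k, hk⟩

theorem map_le_smul_top {V : X.Opens} (hV : IsAffineOpen V) (I : Ideal Γ(X, V))
    (k : Γ(ClSub.idealMod K, V)) :
    k ∈ I • (⊤ : Submodule Γ(X, V) Γ(ClSub.idealMod K, V)) ↔
      idealSect K V k ∈ I * K.ideal ⟨V, hV⟩ := by
  constructor
  · intro hk
    refine Submodule.smul_induction_on hk (fun a ha m _ => ?_) (fun a b ha hb => ?_)
    · rw [idealSect_smul]
      exact Ideal.mul_mem_mul ha ((exists_idealSect_iff K hV _).1 ⟨m, rfl⟩)
    · rw [map_add]; exact add_mem ha hb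
  · intro hk
    suffices h : ∀ t ∈ I * K.ideal ⟨V, hV⟩, ∃ m ∈ I • (⊤ : Submodule Γ(X, V) Γ(ClSub.idealMod K, V)),
        idealSect K V m = t by
      obtain ⟨m, hm, e⟩ := h _ hk
      rwa [← idealSect_inj K V e]
    intro t ht
    refine Submodule.mul_induction_on ht (fun a ha b hb => ?_) ?_
    · obtain ⟨m, rfl⟩ := (exists_idealSect_iff K hV b).2 hb
      exact ⟨a • m, Submodule.smul_mem_smul ha trivial, idealSect_smul K V a m⟩
    · rintro a b ⟨ma, hma, rfl⟩ ⟨mb, hmb, rfl⟩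
      exact ⟨ma + mb, add_mem hma hmb, map_add _ _ _⟩

variable (i : Z ⟶ X)

theorem pullSect_smul (M : X.Modules) (V : X.Opens) (r : Γ(X, V)) (k : Γ(M, V)) :
    pullSect i M V (r • k) = i.app V r • pullSect i M V k :=
  Scheme.Modules.Hom.app_smul _ r k

theorem grSect_smul (n : ℕ) (V : X.Opens) (r : Γ(X, V)) (k : Γ(ClSub.idealMod (i.ker ^ n), V)) :
    PrinPart.grSect i n V (r • k) = i.app V r • PrinPart.grSect i n V k :=
  pullSect_smul i _ V r k

theorem isQCoh_grMod (n : ℕ) : (PrinPart.grMod i n).IsQuasicoherent := by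
  haveI := Ample.QAffCrit.isQCoh_idealMod (i.ker ^ n)
  exact QCoh.Pullback.isQCoh_pullback i _

variable [QuasiCompact i]

theorem pow_ideal {V : X.Opens} (hV : IsAffineOpen V) (n : ℕ) :
    (i.ker ^ n).ideal ⟨V, hV⟩ = (RingHom.ker (i.app V).hom) ^ n := by
  rw [Scheme.IdealSheafData.ideal_pow, Pi.pow_apply, Scheme.Hom.ker_apply]

theorem mem_pow_iff {V : X.Opens} (hV : IsAffineOpen V) (n : ℕ) (t : Γ(X, V)) :
    (∃ k, idealSect (i.ker ^ n) V k = t) ↔ t ∈ (RingHom.ker (i.app V).hom) ^ n := by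
  rw [exists_idealSect_iff _ hV, pow_ideal i hV]

/-- On a chart `Γ(Gr_n, i⁻¹V)` is `I^n / I^(n+1)`. -/
theorem grSect_spec {V : X.Opens} (h : Conormal92.Affine.IsChart i V) (n : ℕ) :
    Function.Surjective (PrinPart.grSect i n V) ∧
      ∀ k, PrinPart.grSect i n V k = 0 ↔
        idealSect (i.ker ^ n) V k ∈ (RingHom.ker (i.app V).hom) ^ (n + 1) := by
  haveI := Ample.QAffCrit.isQCoh_idealMod (i.ker ^ n)
  let M := ClSub.idealMod (i.ker ^ n)
  letI : Algebra Γ(X, V) Γ(Z, i ⁻¹ᵁ V) := (i.appLE V (i ⁻¹ᵁ V) le_rfl).hom.toAlgebra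
  letI : Module Γ(X, V) Γ((Scheme.Modules.pullback i).obj M, i ⁻¹ᵁ V) :=
    Module.compHom _ (i.appLE V (i ⁻¹ᵁ V) le_rfl).hom
  haveI : IsScalarTower Γ(X, V) Γ(Z, i ⁻¹ᵁ V) Γ((Scheme.Modules.pullback i).obj M, i ⁻¹ᵁ V) :=
    IsScalarTower.of_algebraMap_smul fun _ _ => rfl
  have hb := CechRes.PullSec.isBaseChange_mu i M h.affine h.affine_preimage le_rfl
  have hmu : ∀ k : Γ(M, V), CechRes.PullSec.mu i M (U := i ⁻¹ᵁ V) le_rfl k = PrinPart.grSect i n V k := by
    intro k
    show ((Scheme.Modules.pullback i).obj M).presheaf.map (homOfLE le_rfl).op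
      (PrinPart.grSect i n V k) = PrinPart.grSect i n V k
    rw [Subsingleton.elim (homOfLE le_rfl).op (𝟙 (op (i ⁻¹ᵁ V)))]
    erw [CategoryTheory.Functor.map_id]
    rfl
  have halg : algebraMap Γ(X, V) Γ(Z, i ⁻¹ᵁ V) = (i.app V).hom := by
    show (i.appLE V (i ⁻¹ᵁ V) le_rfl).hom = _
    rw [← Scheme.Hom.app_eq_appLE]
  let e := hb.equiv
  have he : ∀ k : Γ(M, V), e (1 ⊗ₜ k) = PrinPart.grSect i n V k := fun k => by
    rw [hb.equiv_tmul, one_smul]
    exact hmu k
  have hs : Function.Surjective (algebraMap Γ(X, V) Γ(Z, i ⁻¹ᵁ V)) := by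
    rw [halg]; exact h.surj
  obtain ⟨hsur, hzero⟩ := Conormal92.Affine.one_tmul_spec hs (M := Γ(M, V))
  constructor
  · intro y
    obtain ⟨z, rfl⟩ := e.surjective y
    obtain ⟨k, rfl⟩ := hsur z
    exact ⟨k, (he k).symm⟩
  · intro k
    rw [← he k]
    refine (LinearEquiv.map_eq_zero_iff e).trans ((hzero k).trans ?_)
    rw [halg, map_le_smul_top _ h.affine, pow_ideal i h.affine n, ← pow_succ']

end Groth.Agent.Lib.GrBC
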