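import Groth.Agent.Lib.GrBC.Basic
import Groth.Agent.Lib.GrBC.Alg
import Groth.Agent.Lib.Synt92.KRDescentScheme
import Groth.Agent.Lib.CechRes.PullSec

/-!
# The canonical map of graded pieces on charts
-/

set_option autoImplicit false
set_option linter.style.haveILetI false
universe u

open CategoryTheory CategoryTheory.Limits AlgebraicGeometry TopologicalSpace Opposite OmegaSh
open Groth.Agent.Lib Groth.Agent.Lib.Synt92
open scoped TensorProduct

namespace Groth.Agent.Lib.GrBC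

variable {Z X Z' X' : Scheme.{u}} {i : Z ⟶ X} {i' : Z' ⟶ X'} {g : X ⟶ X'} {gZ : Z ⟶ Z'} {n : ℕ}
  {φ : (Scheme.Modules.pullback gZ).obj (PrinPart.grMod i' n) ⟶ PrinPart.grMod i n}
  [IsClosedImmersion i] [IsClosedImmersion i']

theorem exists_lift (hw : gZ ≫ i' = i ≫ g) (U' : X'.Opens)
    (k' : Γ(ClSub.idealMod (i'.ker ^ n), U')) :
    ∃ k₀, idealSect (i.ker ^ n) (g ⁻¹ᵁ U') k₀ = g.app U' (idealSect (i'.ker ^ n) U' k') := by
  refine exists_idealSect_of_local _ _ _ fun x hx => ?_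
  obtain ⟨W', hW', hxW', hW'U'⟩ := exists_isAffineOpen_mem_and_subset (show g x ∈ U' from hx)
  have hW'U : W' ≤ U' := hW'U'
  obtain ⟨W, hW, hxW, hWle⟩ := exists_isAffineOpen_mem_and_subset (show x ∈ g ⁻¹ᵁ W' from hxW')
  have eW : W ≤ g ⁻¹ᵁ W' := hWle
  have e : W ≤ g ⁻¹ᵁ U' := eW.trans (g.preimage_mono hW'U)
  refine ⟨⟨W, hW⟩, hxW, e, ?_⟩
  rw [pow_ideal i hW]
  have h1 : X'.presheaf.map (homOfLE hW'U).op (idealSect (i'.ker ^ n) U' k') ∈
      (RingHom.ker (i'.app W').hom) ^ n := by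
    rw [← idealSect_map _ hW'U]
    exact (mem_pow_iff i' hW' n _).1 ⟨_, rfl⟩
  have h2 : X.presheaf.map (homOfLE e).op (g.app U' (idealSect (i'.ker ^ n) U' k')) =
      g.appLE W' W eW (X'.presheaf.map (homOfLE hW'U).op (idealSect (i'.ker ^ n) U' k')) := by
    show (g.app U' ≫ X.presheaf.map (homOfLE e).op) _ =
      (X'.presheaf.map (homOfLE hW'U).op ≫ g.appLE W' W eW) _
    rw [Scheme.Hom.map_appLE]
    rfl
  rw [h2]
  refine Ideal.pow_right_mono (Ideal.map_le_iff_le_comap.2 fun a ha => ?_) n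
    (Ideal.map_pow (g.appLE W' W eW).hom (RingHom.ker (i'.app W').hom) n ▸ Ideal.mem_map_of_mem _ h1)
  rw [Ideal.mem_comap, RingHom.mem_ker]
  have key : ∀ (q q' : Z ⟶ X') (_ : q = q') (T : Z.Opens) (e : T ≤ q ⁻¹ᵁ W') (e' : T ≤ q' ⁻¹ᵁ W'),
      q.appLE W' T e a = q'.appLE W' T e' a := by rintro q _ rfl T e e'; rfl
  have eZ : i ⁻¹ᵁ W ≤ gZ ⁻¹ᵁ (i' ⁻¹ᵁ W') := by
    refine (i.preimage_mono eW).trans (le_of_eq ?_)
    rw [← Scheme.Hom.comp_preimage, ← hw, Scheme.Hom.comp_preimage]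
  change (g.appLE W' W eW ≫ i.app W) a = 0
  rw [Scheme.Hom.app_eq_appLE, Scheme.Hom.appLE_comp_appLE,
    key _ _ hw.symm _ _ eZ, ← Scheme.Hom.appLE_comp_appLE (e₁ := le_rfl) (e₂ := eZ),
    ← Scheme.Hom.app_eq_appLE]
  change gZ.appLE _ _ eZ (i'.app W' a) = 0
  rw [RingHom.mem_ker.1 ha, map_zero]

/-- The value of the canonical map on a pulled-back class. -/
theorem app_mu (hφ : PrinPart.IsGrMap i i' g gZ n φ) {V' : X'.Opens} {V : X.Opens}
    (eV : V ≤ g ⁻¹ᵁ V') (eW : i ⁻¹ᵁ V ≤ gZ ⁻¹ᵁ (i' ⁻¹ᵁ V')) (k' : Γ(ClSub.idealMod (i'.ker ^ n), V'))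
    (k : Γ(ClSub.idealMod (i.ker ^ n), V))
    (h : idealSect (i.ker ^ n) V k = g.appLE V' V eV (idealSect (i'.ker ^ n) V' k')) :
    φ.app (i ⁻¹ᵁ V) (CechRes.PullSec.mu gZ (PrinPart.grMod i' n) eW (PrinPart.grSect i' n V' k')) =
      PrinPart.grSect i n V k := by
  obtain ⟨k₀, hk₀⟩ := exists_lift (n := n) hφ.1 V' k'
  have hk : k = (ClSub.idealMod (i.ker ^ n)).presheaf.map (homOfLE eV).op k₀ := by
    apply idealSect_inj
    rw [idealSect_map, hk₀, h]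
    rfl
  show φ.app (i ⁻¹ᵁ V) (((Scheme.Modules.pullback gZ).obj (PrinPart.grMod i' n)).presheaf.map (homOfLE eW).op
    (pullSect gZ (PrinPart.grMod i' n) (i' ⁻¹ᵁ V') (PrinPart.grSect i' n V' k'))) = _
  refine (ConcreteCategory.congr_hom (φ.mapPresheaf.naturality (homOfLE eW).op) _).trans ?_
  refine (hφ.2 V' k' k₀ hk₀ (i ⁻¹ᵁ V) eW (i.preimage_mono eV)).trans ?_
  rw [hk]
  exact (congr($((Scheme.Modules.Hom.mapPresheaf ((Scheme.Modules.pullbackPushforwardAdjunction i).unit.app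
    (ClSub.idealMod (i.ker ^ n)))).naturality (homOfLE eV).op) k₀)).symm

/-- The canonical map on a chart: surjective, and injective when `B ⊗ I^n/I^(n+1) → B ⊗ A/I^(n+1)`
is injective. -/
theorem chart_spec (hsq : IsPullback i gZ g i') (hφ : PrinPart.IsGrMap i i' g gZ n φ) {V' : X'.Opens}
    (hV' : IsAffineOpen V') {V : X.Opens} (hV : IsAffineOpen V) (eV : V ≤ g ⁻¹ᵁ V') :
    Function.Surjective (φ.app (i ⁻¹ᵁ V)) ∧
      ((letI : Algebra Γ(X', V') Γ(X, V) := (g.appLE V' V eV).hom.toAlgebra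
        Function.Injective ((grSub (RingHom.ker (i'.app V').hom) n).subtype.lTensor Γ(X, V))) →
        Function.Injective (φ.app (i ⁻¹ᵁ V))) := by
  obtain ⟨-, hker⟩ := KRDescentScheme.ker_baseChange i' g i gZ hsq.flip hV' inferInstance hV eV
  have hch' := Conormal92.Affine.isChart_of_closed i' hV'
  have hch := Conormal92.Affine.isChart_of_closed i hV
  have eW : i ⁻¹ᵁ V ≤ gZ ⁻¹ᵁ (i' ⁻¹ᵁ V') := by
    refine (i.preimage_mono eV).trans (le_of_eq ?_)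
    rw [← Scheme.Hom.comp_preimage, hsq.w, Scheme.Hom.comp_preimage]
  haveI := isQCoh_grMod i' n
  let N := (Scheme.Modules.pullback gZ).obj (PrinPart.grMod i' n)
  let C' := PrinPart.grMod i' n
  let μ : Γ(C', i' ⁻¹ᵁ V') → Γ(N, i ⁻¹ᵁ V) := CechRes.PullSec.mu gZ C' eW
  letI algA : Algebra Γ(X', V') Γ(X, V) := (g.appLE V' V eV).hom.toAlgebra
  letI modN : Module Γ(X, V) Γ(N, i ⁻¹ᵁ V) := Module.compHom _ (i.app V).hom
  letI : Module Γ(X', V') Γ(N, i ⁻¹ᵁ V) := Module.compHom _ (g.appLE V' V eV).hom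
  haveI : IsScalarTower Γ(X', V') Γ(X, V) Γ(N, i ⁻¹ᵁ V) := IsScalarTower.of_algebraMap_smul fun _ _ => rfl
  have hcomm : ∀ a : Γ(X', V'), gZ.appLE (i' ⁻¹ᵁ V') (i ⁻¹ᵁ V) eW (i'.app V' a) =
      i.app V (g.appLE V' V eV a) := by
    have key : ∀ (q q' : Z ⟶ X') (_ : q = q') (W : Z.Opens) (e : W ≤ q ⁻¹ᵁ V') (e' : W ≤ q' ⁻¹ᵁ V')
        (a : Γ(X', V')), q.appLE V' W e a = q'.appLE V' W e' a := by rintro q _ rfl W e e' a; rfl
    intro a
    simp only [← ConcreteCategory.comp_apply, Scheme.Hom.app_eq_appLE, Scheme.Hom.appLE_comp_appLE]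
    exact key _ _ hsq.w.symm _ _ _ a
  let M' := Γ(ClSub.idealMod (i'.ker ^ n), V')
  let ℓ : M' →ₗ[Γ(X', V')] Γ(N, i ⁻¹ᵁ V) :=
    { toFun := fun k' => μ (PrinPart.grSect i' n V' k')
      map_add' := fun a b => by simp only [μ, map_add]
      map_smul' := fun a k' => by
        show μ (PrinPart.grSect i' n V' (a • k')) =
          (i.app V (g.appLE V' V eV a)) • μ (PrinPart.grSect i' n V' k')
        rw [← hcomm, grSect_smul]
        exact map_smulₛₗ (CechRes.PullSec.mu gZ C' eW) _ _ }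
  let L := LinearMap.liftBaseChange Γ(X, V) ℓ
  let val : M' →ₗ[Γ(X', V')] Γ(X', V') :=
    { toFun := fun k' => idealSect (i'.ker ^ n) V' k'
      map_add' := map_add _
      map_smul' := fun a k' => idealSect_smul _ V' a k' }
  let v := LinearMap.liftBaseChange Γ(X, V) ((Algebra.linearMap Γ(X', V') Γ(X, V)) ∘ₗ val)
  have hv : ∀ (a : Γ(X, V)) (k' : M'), v (a ⊗ₜ k') = a * g.appLE V' V eV (idealSect (i'.ker ^ n) V' k') :=
    fun a k' => rfl
  have hkerpow : ∀ j : ℕ, (RingHom.ker (i.app V).hom) ^ j =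
      ((RingHom.ker (i'.app V').hom) ^ j).map (g.appLE V' V eV).hom := fun j => by
    rw [hker, Ideal.map_pow]
  have hΦ : ∀ w, ∃ k, idealSect (i.ker ^ n) V k = v w ∧
      φ.app (i ⁻¹ᵁ V) (L w) = PrinPart.grSect i n V k := by
    intro w
    induction w using TensorProduct.induction_on with
    | zero => exact ⟨0, by rw [map_zero, map_zero], by rw [map_zero, map_zero, map_zero]⟩
    | tmul a k' =>
      obtain ⟨k, hk⟩ := (mem_pow_iff i hV n (g.appLE V' V eV (idealSect (i'.ker ^ n) V' k'))).2 (by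
        rw [hkerpow]
        exact Ideal.mem_map_of_mem _ ((mem_pow_iff i' hV' n _).1 ⟨k', rfl⟩))
      refine ⟨a • k, by rw [hv, idealSect_smul, hk], ?_⟩
      show φ.app (i ⁻¹ᵁ V) ((i.app V a : Γ(Z, i ⁻¹ᵁ V)) • μ (PrinPart.grSect i' n V' k')) = _
      rw [Scheme.Modules.Hom.app_smul, grSect_smul]
      exact congrArg (i.app V a • ·) (app_mu hφ eV eW k' k hk)
    | add x y hx hy =>
      obtain ⟨kx, hx1, hx2⟩ := hx
      obtain ⟨ky, hy1, hy2⟩ := hy
      exact ⟨kx + ky, by rw [map_add, map_add, hx1, hy1], by rw [map_add, map_add, map_add, hx2, hy2]⟩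
  have hrange : ∀ t ∈ (RingHom.ker (i.app V).hom) ^ n, ∃ w, v w = t := by
    intro t ht
    rw [hkerpow] at ht
    refine Submodule.span_induction ?_ ⟨0, map_zero v⟩ ?_ ?_ ht
    · rintro _ ⟨t', ht', rfl⟩
      obtain ⟨k', hk'⟩ := (mem_pow_iff i' hV' n t').2 ht'
      exact ⟨1 ⊗ₜ k', by rw [hv, one_mul, hk']⟩
    · rintro x y - - ⟨a, rfl⟩ ⟨b, rfl⟩
      exact ⟨a + b, map_add v a b⟩
    · rintro r x - ⟨a, rfl⟩
      exact ⟨r • a, map_smul v r a⟩
  refine ⟨fun y => ?_, fun H => ?_⟩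
  · obtain ⟨k, rfl⟩ := (grSect_spec i hch n).1 y
    obtain ⟨w, hw⟩ := hrange _ ((mem_pow_iff i hV n _).1 ⟨k, rfl⟩)
    obtain ⟨k₁, hk1, hk2⟩ := hΦ w
    exact ⟨L w, hk2.trans (congrArg _ (idealSect_inj _ V (hk1.trans hw)))⟩
  · rw [injective_iff_map_eq_zero]
    intro y hy
    obtain ⟨w, rfl⟩ : ∃ w, L w = y := by
      letI : Algebra Γ(Z', i' ⁻¹ᵁ V') Γ(Z, i ⁻¹ᵁ V) := (gZ.appLE _ _ eW).hom.toAlgebra
      letI : Module Γ(Z', i' ⁻¹ᵁ V') Γ(N, i ⁻¹ᵁ V) := Module.compHom _ (gZ.appLE _ _ eW).hom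
      haveI : IsScalarTower Γ(Z', i' ⁻¹ᵁ V') Γ(Z, i ⁻¹ᵁ V) Γ(N, i ⁻¹ᵁ V) :=
        IsScalarTower.of_algebraMap_smul fun _ _ => rfl
      have hb := CechRes.PullSec.isBaseChange_mu gZ C' hch'.affine_preimage hch.affine_preimage eW
      obtain ⟨z, hz⟩ := hb.equiv.surjective y
      suffices h : ∀ z, ∃ w, L w = hb.equiv z by exact (h z).imp fun w hw => hw.trans hz
      intro z
      induction z using TensorProduct.induction_on with
      | zero => exact ⟨0, by rw [map_zero, map_zero]⟩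
      | tmul b m =>
        obtain ⟨a, rfl⟩ := hch.surj b
        obtain ⟨k', rfl⟩ := (grSect_spec i' hch' n).1 m
        exact ⟨a ⊗ₜ k', by rw [hb.equiv_tmul]; rfl⟩
      | add p q hp hq =>
        obtain ⟨a, ha⟩ := hp
        obtain ⟨b, hb'⟩ := hq
        exact ⟨a + b, by rw [map_add, map_add, ha, hb']⟩
    obtain ⟨k, hk1, hk2⟩ := hΦ w
    rw [hy, eq_comm, (grSect_spec i hch n).2, hk1, hkerpow] at hk2
    refine factor_zero (RingHom.ker (i'.app V').hom) n val ?_ ℓ (fun k' hk' => ?_) H w hk2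
    · ext t
      exact mem_pow_iff i' hV' n t
    · show μ (PrinPart.grSect i' n V' k') = 0
      rw [((grSect_spec i' hch' n).2 k').2 hk']
      exact map_zero _

end Groth.Agent.Lib.GrBC
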