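import Groth.Agent.Lib.GrBC.Chart
import Groth.Agent.Lib.QCohChart.Basic
import Mathlib.AlgebraicGeometry.Morphisms.Flat

/-!
# The canonical map of graded pieces is epi, and iso when it is injective on charts
-/

set_option autoImplicit false
set_option linter.style.haveILetI false
universe u

open CategoryTheory CategoryTheory.Limits AlgebraicGeometry TopologicalSpace Opposite OmegaSh
open Groth.Agent.Lib
open scoped TensorProduct

namespace Groth.Agent.Lib.GrBC

variable {Z X Z' X' : Scheme.{u}} {i : Z ⟶ X} {i' : Z' ⟶ X'} {g : X ⟶ X'} {gZ : Z ⟶ Z'} {n : ℕ}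
  {φ : (Scheme.Modules.pullback gZ).obj (PrinPart.grMod i' n) ⟶ PrinPart.grMod i n}
  [IsClosedImmersion i] [IsClosedImmersion i']

theorem epi_of_baseChange (hsq : IsPullback i gZ g i') (hφ : PrinPart.IsGrMap i i' g gZ n φ) : Epi φ := by
  haveI := isQCoh_grMod i n
  refine QCohChart.Basic.epi_of_charts φ fun z => ?_
  obtain ⟨V', hV', hzV', -⟩ := exists_isAffineOpen_mem_and_subset (U := (⊤ : X'.Opens)) (x := g (i z)) trivial
  obtain ⟨V, hV, hzV, eV⟩ := exists_isAffineOpen_mem_and_subset (show i z ∈ g ⁻¹ᵁ V' from hzV')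
  exact ⟨_, hV.preimage i, hzV, (chart_spec hsq hφ hV' hV eV).1⟩

theorem isIso_of_injective (hsq : IsPullback i gZ g i') (hφ : PrinPart.IsGrMap i i' g gZ n φ)
    (h : ∀ z : Z, ∃ (V' : X'.Opens) (V : X.Opens) (_ : IsAffineOpen V') (_ : IsAffineOpen V)
      (eV : V ≤ g ⁻¹ᵁ V'), i z ∈ V ∧
      (letI : Algebra Γ(X', V') Γ(X, V) := (g.appLE V' V eV).hom.toAlgebra
       Function.Injective ((grSub (RingHom.ker (i'.app V').hom) n).subtype.lTensor Γ(X, V)))) :
    IsIso φ := by
  haveI := isQCoh_grMod i n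
  haveI := isQCoh_grMod i' n
  haveI : ((Scheme.Modules.pullback gZ).obj (PrinPart.grMod i' n)).IsQuasicoherent :=
    QCoh.Pullback.isQCoh_pullback gZ _
  haveI := epi_of_baseChange hsq hφ
  haveI : Mono φ := QCohChart.Basic.mono_of_charts φ fun z => by
    obtain ⟨V', V, hV', hV, eV, hzV, hinj⟩ := h z
    exact ⟨_, hV.preimage i, hzV, (chart_spec hsq hφ hV' hV eV).2 hinj⟩
  exact isIso_of_mono_of_epi φ

theorem isIso_of_flat (hsq : IsPullback i gZ g i') [Flat g] (hφ : PrinPart.IsGrMap i i' g gZ n φ) :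
    IsIso φ := by
  refine isIso_of_injective hsq hφ fun z => ?_
  obtain ⟨V', hV', hzV', -⟩ := exists_isAffineOpen_mem_and_subset (U := (⊤ : X'.Opens)) (x := g (i z)) trivial
  obtain ⟨V, hV, hzV, eV⟩ := exists_isAffineOpen_mem_and_subset (show i z ∈ g ⁻¹ᵁ V' from hzV')
  refine ⟨V', V, hV', hV, eV, hzV, ?_⟩
  letI : Algebra Γ(X', V') Γ(X, V) := (g.appLE V' V eV).hom.toAlgebra
  haveI : Module.Flat Γ(X', V') Γ(X, V) :=
    RingHom.flat_algebraMap_iff.1 (Scheme.Hom.flat_appLE g hV' hV eV)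
  exact Module.Flat.lTensor_preserves_injective_linearMap _ Subtype.val_injective

end Groth.Agent.Lib.GrBC
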