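import Groth.Agent.Lib.GrBC.Global
import Groth.Agent.Lib.Modules.AffineSections
import Mathlib.Algebra.Category.Ring.Constructions

/-!
# Base change of the graded pieces of a section
-/

set_option autoImplicit false
set_option linter.style.haveILetI false
universe u

open CategoryTheory CategoryTheory.Limits AlgebraicGeometry TopologicalSpace Opposite OmegaSh
open Groth.Agent.Lib
open scoped TensorProduct

namespace Groth.Agent.Lib.GrBC

variable {X Y : Scheme.{u}} {g : X ⟶ Y} {f : Y ⟶ X}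

theorem app_appLE_section (hf : f ≫ g = 𝟙 Y) {V : X.Opens} (e : V ≤ g ⁻¹ᵁ (f ⁻¹ᵁ V))
    (b : Γ(Y, f ⁻¹ᵁ V)) : f.app V (g.appLE (f ⁻¹ᵁ V) V e b) = b := by
  have key : ∀ (q : Y ⟶ Y) (_ : q = 𝟙 Y) (T : Y.Opens) (e : T ≤ q ⁻¹ᵁ T) (b : Γ(Y, T)),
      q.appLE T T e b = b := by
    rintro q rfl T e b
    simp only [Scheme.Hom.appLE, Scheme.Hom.id_app]
    rw [Subsingleton.elim (homOfLE e).op (𝟙 (op T))]
    erw [CategoryTheory.Functor.map_id]
    rfl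
  rw [← ConcreteCategory.comp_apply, Scheme.Hom.app_eq_appLE, Scheme.Hom.appLE_comp_appLE]
  exact key _ hf _ _ b

variable [IsClosedImmersion f]

/-- `I^k/I^(k+1)` is flat over the base on a chart when the graded piece is flat. -/
theorem flat_grSub (hf : f ≫ g = 𝟙 Y) {k : ℕ} (hfl : FlatMod.IsFlat (PrinPart.grMod f k)) {V : X.Opens}
    (hV : IsAffineOpen V) (e : V ≤ g ⁻¹ᵁ (f ⁻¹ᵁ V)) :
    letI : Algebra Γ(Y, f ⁻¹ᵁ V) Γ(X, V) := (g.appLE (f ⁻¹ᵁ V) V e).hom.toAlgebra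
    Module.Flat Γ(Y, f ⁻¹ᵁ V) (grSub (RingHom.ker (f.app V).hom) k) := by
  letI : Algebra Γ(Y, f ⁻¹ᵁ V) Γ(X, V) := (g.appLE (f ⁻¹ᵁ V) V e).hom.toAlgebra
  haveI := isQCoh_grMod f k
  haveI := Modules.AffineSections.flat_sections (M := PrinPart.grMod f k) hfl (hV.preimage f)
  let I := RingHom.ker (f.app V).hom
  let M := Γ(ClSub.idealMod (f.ker ^ k), V)
  letI : Module Γ(Y, f ⁻¹ᵁ V) M := Module.compHom _ (g.appLE (f ⁻¹ᵁ V) V e).hom
  let p : M →ₗ[Γ(Y, f ⁻¹ᵁ V)] Γ(PrinPart.grMod f k, f ⁻¹ᵁ V) :=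
    { toFun := fun m => PrinPart.grSect f k V m
      map_add' := map_add _
      map_smul' := fun b m => by
        show PrinPart.grSect f k V (g.appLE (f ⁻¹ᵁ V) V e b • m) = b • PrinPart.grSect f k V m
        rw [grSect_smul, app_appLE_section hf] }
  let q : M →ₗ[Γ(Y, f ⁻¹ᵁ V)] grSub I k :=
    { toFun := fun m => ⟨Submodule.mkQ (I ^ (k + 1)) (idealSect (f.ker ^ k) V m),
        Submodule.mem_map_of_mem ((mem_pow_iff f hV k _).1 ⟨m, rfl⟩)⟩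
      map_add' := fun a b => Subtype.ext (by simp)
      map_smul' := fun b m => Subtype.ext (by
        show Submodule.mkQ (I ^ (k + 1)) (idealSect (f.ker ^ k) V (g.appLE (f ⁻¹ᵁ V) V e b • m)) =
          b • Submodule.mkQ (I ^ (k + 1)) (idealSect (f.ker ^ k) V m)
        rw [idealSect_smul, ← smul_eq_mul, map_smul]
        exact algebraMap_smul Γ(X, V) b _) }
  obtain ⟨hsur, hzero⟩ := grSect_spec f (Conormal92.Affine.isChart_of_closed f hV) k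
  have hp : Function.Surjective p := hsur
  have hq : Function.Surjective q := by
    rintro ⟨_, a, ha, rfl⟩
    obtain ⟨m, rfl⟩ := (mem_pow_iff f hV k a).2 ha
    exact ⟨m, rfl⟩
  have hker : LinearMap.ker p = LinearMap.ker q := by
    ext m
    rw [LinearMap.mem_ker, LinearMap.mem_ker]
    refine (hzero m).trans ?_
    rw [Subtype.ext_iff]
    exact (Submodule.Quotient.mk_eq_zero _).symm
  exact Module.Flat.of_linearEquiv ((LinearMap.quotKerEquivOfSurjective q hq).symm.trans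
    ((Submodule.quotEquivOfEq _ _ hker.symm).trans (LinearMap.quotKerEquivOfSurjective p hp)))

variable {X' Y' : Scheme.{u}} {u : Y' ⟶ Y} {v : X' ⟶ X} {g' : X' ⟶ Y'} {f' : Y' ⟶ X'} {n : ℕ}
  {φ : (Scheme.Modules.pullback u).obj (PrinPart.grMod f n) ⟶ PrinPart.grMod f' n}

theorem isIso_of_section (hf : f ≫ g = 𝟙 Y) (hsq : IsPullback v g' g u) (hf' : f' ≫ g' = 𝟙 Y')
    (hf'v : f' ≫ v = u ≫ f) (hflat : ∀ k, 1 ≤ k → k < n → FlatMod.IsFlat (PrinPart.grMod f k))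
    (hφ : PrinPart.IsGrMap f' f v u n φ) : IsIso φ := by
  have hsq' : IsPullback u f' f v := by
    refine IsPullback.of_bot ?_ hf'v.symm hsq
    rw [hf', hf]
    exact IsPullback.of_vert_isIso ⟨by simp⟩
  haveI : IsClosedImmersion f' := MorphismProperty.of_isPullback hsq' ‹IsClosedImmersion f›
  refine isIso_of_injective hsq'.flip hφ fun z => ?_
  let y := u z
  have hgf : ∀ y : Y, g (f y) = y := fun y => by
    show (f ≫ g) y = y
    rw [hf]; rfl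
  obtain ⟨U, hU, hyU, -⟩ := exists_isAffineOpen_mem_and_subset (U := (⊤ : Y.Opens)) (x := y) trivial
  obtain ⟨V₁, hV₁, hxV₁, hV₁U'⟩ := exists_isAffineOpen_mem_and_subset
    (show f y ∈ g ⁻¹ᵁ U from by show g (f y) ∈ U; rw [hgf]; exact hyU)
  have hV₁U : V₁ ≤ g ⁻¹ᵁ U := hV₁U'
  obtain ⟨s, hsle, hys⟩ := hU.exists_basicOpen_le (V := f ⁻¹ᵁ V₁ ⊓ U) ⟨y, hxV₁, hyU⟩ hyU
  let V := X.basicOpen (g.appLE U V₁ hV₁U s)
  have hV : IsAffineOpen V := hV₁.basicOpen _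
  have hVeq : V = V₁ ⊓ g ⁻¹ᵁ Y.basicOpen s := Scheme.basicOpen_appLE g _ _ hV₁U s
  have hfV : f ⁻¹ᵁ V = Y.basicOpen s := by
    rw [hVeq, Scheme.Hom.preimage_inf, ← Scheme.Hom.comp_preimage, hf]
    exact inf_eq_right.2 (hsle.trans inf_le_left)
  have e : V ≤ g ⁻¹ᵁ (f ⁻¹ᵁ V) := by rw [hfV, hVeq]; exact inf_le_right
  obtain ⟨W, hW, hzW, eW'⟩ := exists_isAffineOpen_mem_and_subset
    (show z ∈ u ⁻¹ᵁ (f ⁻¹ᵁ V) from by rw [hfV]; exact hys)
  have eW : W ≤ u ⁻¹ᵁ (f ⁻¹ᵁ V) := eW'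
  let V' := v ⁻¹ᵁ V ⊓ g' ⁻¹ᵁ W
  have hV' : IsAffineOpen V' := by
    haveI : IsAffine _ := hV.preimage f
    haveI : IsAffine _ := hV
    haveI : IsAffine _ := hW
    exact .of_isIso (Scheme.Hom.isPullback_resLE hsq eW e (UY := V') rfl).isoPullback.hom
  refine ⟨V, V', hV, hV', inf_le_left, ⟨?_, ?_⟩, ?_⟩
  · show (f' ≫ v) z ∈ V
    rw [hf'v]
    exact eW hzW
  · show (f' ≫ g') z ∈ W
    rw [hf']
    exact hzW
  letI : Algebra Γ(Y, f ⁻¹ᵁ V) Γ(X, V) := (g.appLE (f ⁻¹ᵁ V) V e).hom.toAlgebra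
  letI : Algebra Γ(Y, f ⁻¹ᵁ V) Γ(Y', W) := (u.appLE (f ⁻¹ᵁ V) W eW).hom.toAlgebra
  letI : Algebra Γ(X, V) Γ(X', V') := (v.appLE V V' inf_le_left).hom.toAlgebra
  letI : Algebra Γ(Y', W) Γ(X', V') := (g'.appLE W V' inf_le_right).hom.toAlgebra
  letI : Algebra Γ(Y, f ⁻¹ᵁ V) Γ(X', V') :=
    (g.appLE (f ⁻¹ᵁ V) V e ≫ v.appLE V V' inf_le_left).hom.toAlgebra
  haveI : IsScalarTower Γ(Y, f ⁻¹ᵁ V) Γ(X, V) Γ(X', V') := IsScalarTower.of_algebraMap_eq fun _ => rfl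
  haveI : IsScalarTower Γ(Y, f ⁻¹ᵁ V) Γ(Y', W) Γ(X', V') := IsScalarTower.of_algebraMap_eq fun b => by
    show (g.appLE (f ⁻¹ᵁ V) V e ≫ v.appLE V V' inf_le_left) b =
      (u.appLE (f ⁻¹ᵁ V) W eW ≫ g'.appLE W V' inf_le_right) b
    simp only [Scheme.Hom.appLE_comp_appLE, hsq.w]
  have hpo := (isIso_pushoutSection_iff hsq eW e (UY := V') rfl).mp
    (isIso_pushoutSection_of_isAffineOpen hsq eW e rfl (hV.preimage f) hW hV)
  haveI : Algebra.IsPushout Γ(Y, f ⁻¹ᵁ V) Γ(Y', W) Γ(X, V) Γ(X', V') :=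
    CommRingCat.isPushout_iff_isPushout.1 hpo.flip
  exact injective_of_section (B₁ := Γ(Y', W)) _ n (f.app V).hom (app_appLE_section hf e) rfl
    fun k h1 h2 => flat_grSub hf (hflat k h1 h2) hV e

end Groth.Agent.Lib.GrBC
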